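import Groth.Agent.L22.Nef.NumTriv
import Groth.Agent.L22.Nef.Surjective
import Groth.Agent.L22.Nef.Bridge

/-!
# Numerical equivalence through nef modules
-/

set_option autoImplicit false
set_option backward.isDefEq.respectTransparency false
set_option linter.style.haveILetI false
set_option linter.unusedSectionVars false

universe u

open CategoryTheory CategoryTheory.Limits AlgebraicGeometry TopologicalSpace

noncomputable section

namespace Groth.L02.Num

open Groth.L22.Inter Groth.L22.Nef Groth.L03.Euler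

variable (k : Type u) [Field k] {X : Scheme.{u}} [X.Over (Spec (CommRingCat.of k))]
  [IsProper (X ↘ Spec (CommRingCat.of k))]

/-- Same degree on every integral closed curve. -/
def NumEq (L N : X.Modules) : Prop :=
  ∀ (Y : Scheme.{u}) (ι : Y ⟶ X) [IsClosedImmersion ι], IsIntegral Y → topologicalKrullDim Y = 1 →
    Pic13.curveDeg k (ι ≫ (X ↘ Spec (CommRingCat.of k))) ((Scheme.Modules.pullback ι).obj L) =
      Pic13.curveDeg k (ι ≫ (X ↘ Spec (CommRingCat.of k))) ((Scheme.Modules.pullback ι).obj N)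

variable {k} {L N P Q : X.Modules}

theorem numEq_iff (hL : PicF.IsInvertible L) (hN : PicF.IsInvertible N) :
    NumEq k L N ↔ ∀ y : X, topologicalKrullDim (closure ({y} : Set X)) = (1 : ℕ) →
      altT k (fun _ : Fin 1 => L) (ClSub.quotMod (pt y)) = altT k (fun _ : Fin 1 => N) (ClSub.quotMod (pt y)) := by
  constructor
  · intro h y hy
    haveI := isIntegral_pt y
    have hdy : topologicalKrullDim (pt y).subscheme = (1 : ℕ) := by
      rw [← dim_closure_image (pt y).subschemeι, genericPoint_pt, hy]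
    have h1 := curveDeg_eq k hL (pt y).subschemeι hdy
    have h2 := curveDeg_eq k hN (pt y).subschemeι hdy
    rw [genericPoint_pt] at h1 h2
    rw [← h1, ← h2, h _ (pt y).subschemeι inferInstance hdy]
  · intro h Y ι _ hY hd
    haveI := hY
    have := h _ ((dim_closure_image ι).trans hd)
    rw [← curveDeg_eq k hL ι hd, ← curveDeg_eq k hN ι hd] at this
    exact_mod_cast this

theorem deg_tensor {A B : X.Modules} (hA : PicF.IsInvertible A) (hB : PicF.IsInvertible B) (y : X)
    (hy : topologicalKrullDim (closure ({y} : Set X)) = (1 : ℕ)) :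
    altT k (fun _ : Fin 1 => CohB1.tensorMod A B) (ClSub.quotMod (pt y)) =
      altT k (fun _ : Fin 1 => A) (ClSub.quotMod (pt y)) + altT k (fun _ : Fin 1 => B) (ClSub.quotMod (pt y)) := by
  classical
  haveI := Groth.L21.RR.isNoetherian_of_proper (X := X) k
  have hdy : topologicalKrullDim (CohB1.support (ClSub.quotMod (pt y))) ≤ (1 : ℕ) :=
    (topologicalKrullDim_set_mono (pt_facts y).2.1).trans hy.le
  have hup : ∀ C : X.Modules, Function.update (fun _ : Fin 1 => A) 0 C = fun _ => C := fun C => by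
    funext j; rw [Subsingleton.elim j 0, Function.update_self]
  have h := altT_update_tensor (k := k) (L := fun _ : Fin 1 => A) (fun _ => hA) 0 hA hB (pt_facts y).1 hdy
  rwa [hup, hup, hup] at h

theorem deg_unit (y : X) :
    altT k (fun _ : Fin 1 => Coh.structureModule X) (ClSub.quotMod (pt y)) = 0 :=
  altT_trivial (Iso.refl _) _

/-- Numerical equivalence means the quotient and its inverse are nef. -/
theorem numEq_iff_isNef (hL : PicF.IsInvertible L) (hN : PicF.IsInvertible N) (hP : PicF.IsInvertible P)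
    (hQ : PicF.IsInvertible Q) (eP : CohB1.tensorMod L P ≅ N) (eQ : CohB1.tensorMod P Q ≅ Coh.structureModule X) :
    NumEq k L N ↔ IsNef k P ∧ IsNef k Q := by
  rw [numEq_iff hL hN]
  have hsum : ∀ y : X, topologicalKrullDim (closure ({y} : Set X)) = (1 : ℕ) →
      altT k (fun _ : Fin 1 => N) (ClSub.quotMod (pt y)) =
          altT k (fun _ : Fin 1 => L) (ClSub.quotMod (pt y)) + altT k (fun _ : Fin 1 => P) (ClSub.quotMod (pt y)) ∧
        altT k (fun _ : Fin 1 => P) (ClSub.quotMod (pt y)) + altT k (fun _ : Fin 1 => Q) (ClSub.quotMod (pt y)) = 0 :=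
    fun y hy => by
      refine ⟨?_, ?_⟩
      · rw [← deg_tensor hL hP y hy]
        exact (altT_congr k (fun _ => ⟨eP⟩) _).symm
      · rw [← deg_tensor hP hQ y hy]
        exact (altT_congr k (fun _ => ⟨eQ⟩) _).trans (deg_unit y)
  constructor
  · intro h
    refine ⟨⟨hP, fun y hy => ?_⟩, ⟨hQ, fun y hy => ?_⟩⟩ <;>
    · have := hsum y hy; have := h y hy; linarith
  · rintro ⟨hPn, hQn⟩ y hy
    have := hsum y hy; have := hPn.2 y hy; have := hQn.2 y hy
    linarith

theorem exists_quotient (hL : PicF.IsInvertible L) (hN : PicF.IsInvertible N) :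
    ∃ P Q : X.Modules, PicF.IsInvertible P ∧ PicF.IsInvertible Q ∧ Nonempty (CohB1.tensorMod L P ≅ N) ∧
      Nonempty (CohB1.tensorMod P Q ≅ Coh.structureModule X) := by
  obtain ⟨L', hL', ⟨eL⟩⟩ := Groth.L08.Cube.exists_inverse hL
  have hP := Groth.L18.GenLoc.isInvertible_tensor hN hL'
  obtain ⟨Q, hQ, eQ⟩ := Groth.L08.Cube.exists_inverse hP
  exact ⟨_, Q, hP, hQ, ⟨Groth.L00.Tensor.tensorIso (Iso.refl L) (Groth.L00.Tensor.tensorComm N L') ≪≫
    (Groth.L00.Tensor.tensorAssoc L L' N).symm ≪≫ Groth.L00.Tensor.tensorIso eL (Iso.refl N) ≪≫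
    Groth.L00.Tensor.tensorUnitLeft N⟩, eQ⟩

variable {X' : Scheme.{u}} [X'.Over (Spec (CommRingCat.of k))] [IsProper (X' ↘ Spec (CommRingCat.of k))]
  (g : X' ⟶ X) (hg : g ≫ (X ↘ Spec (CommRingCat.of k)) = X' ↘ Spec (CommRingCat.of k))

include hg

theorem pullback_rels (hL : PicF.IsInvertible L) (hN : PicF.IsInvertible N) :
    ∃ P Q : X.Modules, (NumEq k L N ↔ IsNef k P ∧ IsNef k Q) ∧ PicF.IsInvertible P ∧ PicF.IsInvertible Q ∧
      (NumEq k ((Scheme.Modules.pullback g).obj L) ((Scheme.Modules.pullback g).obj N) ↔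
        IsNef k ((Scheme.Modules.pullback g).obj P) ∧ IsNef k ((Scheme.Modules.pullback g).obj Q)) := by
  obtain ⟨P, Q, hP, hQ, ⟨eP⟩, ⟨eQ⟩⟩ := exists_quotient hL hN
  exact ⟨P, Q, numEq_iff_isNef hL hN hP hQ eP eQ, hP, hQ, numEq_iff_isNef
    (Groth.L18.Ample.isInvertible_pullback g hL) (Groth.L18.Ample.isInvertible_pullback g hN)
    (Groth.L18.Ample.isInvertible_pullback g hP) (Groth.L18.Ample.isInvertible_pullback g hQ)
    (Groth.L29.DC.PullTensor.pullTensor g L P ≪≫ (Scheme.Modules.pullback g).mapIso eP)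
    (Groth.L29.DC.PullTensor.pullTensor g P Q ≪≫ (Scheme.Modules.pullback g).mapIso eQ ≪≫
      Groth.L29.LocFree.pullbackUnitIso g)⟩

theorem numEq_pullback (hL : PicF.IsInvertible L) (hN : PicF.IsInvertible N) (h : NumEq k L N) :
    NumEq k ((Scheme.Modules.pullback g).obj L) ((Scheme.Modules.pullback g).obj N) := by
  obtain ⟨P, Q, h1, -, -, h2⟩ := pullback_rels g hg hL hN
  exact h2.2 ⟨(h1.1 h).1.pullback' g hg, (h1.1 h).2.pullback' g hg⟩

theorem numEq_of_pullback [Surjective g] (hL : PicF.IsInvertible L) (hN : PicF.IsInvertible N)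
    (h : NumEq k ((Scheme.Modules.pullback g).obj L) ((Scheme.Modules.pullback g).obj N)) : NumEq k L N := by
  obtain ⟨P, Q, h1, hP, hQ, h2⟩ := pullback_rels g hg hL hN
  exact h1.2 ⟨IsNef.of_pullback g hg hP (h2.1 h).1, IsNef.of_pullback g hg hQ (h2.1 h).2⟩

end Groth.L02.Num
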