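import Groth.Agent.L22.Big.SurfaceMain
import Groth.Agent.L22.Nef.Surjective
import Groth.Agent.L22.Nef.NumTriv
import Groth.Agent.L16.Blow.Integral
import Groth.Agent.L13.BlowUp.Proper
import Groth.Agent.L08.Cube.DivSection
import Groth.Agent.L22.Cyc.FiniteDeg

/-!
# The Hodge index theorem on a proper surface
-/

set_option autoImplicit false
set_option backward.isDefEq.respectTransparency false
set_option linter.style.haveILetI false
set_option linter.unusedSectionVars false

universe u

open CategoryTheory CategoryTheory.Limits AlgebraicGeometry TopologicalSpace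

noncomputable section

namespace Groth.L02.Num.Hodge

open Groth.L22.Inter Groth.L22.Nef Groth.L22.Big Groth.L03.Euler Groth.L16

variable (k : Type u) [Field k] {X : Scheme.{u}} [X.Over (Spec (CommRingCat.of k))]
  [IsProper (X ↘ Spec (CommRingCat.of k))]

section Projective

variable [IsIntegral X]

/-- A module of nonnegative square orthogonal to one of positive square is orthogonal to everything. -/
theorem ii_eq_zero_of_orth (hd : topologicalKrullDim X = (2 : ℕ)) {A : X.Modules} (hA : CohB1.IsAmple A)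
    {H L N : X.Modules} (hH : PicF.IsInvertible H) (hL : PicF.IsInvertible L) (hN : PicF.IsInvertible N)
    (hHH : 0 < ii k H H) (hLH : ii k L H = 0) (hLL : 0 ≤ ii k L L) : ii k L N = 0 := by
  have hdim := hd.le
  haveI := Groth.L21.RR.isNoetherian_of_proper (X := X) k
  have hneg : ∀ M : X.Modules, PicF.IsInvertible M → ii k H M = 0 → ii k M M ≤ 0 := fun M hM h =>
    (orth_sq_le k hdim hH hM hA (ii_ample_pos k hdim hd hA)).2 hHH h
  have hint : ∀ A B : X.Modules, ∃ z : ℤ, ii k A B = (z : ℚ) :=
    fun A B => ⟨_, (intNum_eq_ii k hdim A B).symm⟩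
  have zp : ∀ (P : X.Modules), PicF.IsInvertible P → ∀ a : ℤ, ∃ Z : X.Modules, PicF.IsInvertible Z ∧
      ∀ C : X.Modules, PicF.IsInvertible C → ii k Z C = a * ii k P C := by
    intro P hP a
    obtain ⟨P', hP', ⟨ι⟩⟩ := Groth.L08.Cube.exists_inverse hP
    rcases a.eq_nat_or_neg with ⟨n, rfl | rfl⟩
    · exact ⟨_, Groth.L18.Ample.isInvertible_tensorPow hP n, fun C hC => by
        rw [ii_pow k hdim hP hC]; push_cast; rfl⟩
    · refine ⟨_, Groth.L18.Ample.isInvertible_tensorPow hP' n, fun C hC => ?_⟩
      have h0 : ii k (CohB1.tensorMod P P') C = 0 := (ii_congr k ι C).trans (altT_unit k _)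
      rw [ii_tensor k hdim hP hP' hC] at h0
      rw [ii_pow k hdim hP' hC, show ii k P' C = - ii k P C by linarith]
      push_cast
      ring
  obtain ⟨hh, hhh⟩ := hint H H
  obtain ⟨nh, hnh⟩ := hint N H
  obtain ⟨Z₁, hZ₁, hZ₁i⟩ := zp N hN hh
  obtain ⟨Z₂, hZ₂, hZ₂i⟩ := zp H hH (-nh)
  let M := CohB1.tensorMod Z₁ Z₂
  have hM : PicF.IsInvertible M := Groth.L18.GenLoc.isInvertible_tensor hZ₁ hZ₂
  have hMH : ii k H M = 0 := by
    rw [ii_comm, ii_tensor k hdim hZ₁ hZ₂ hH, hZ₁i H hH, hZ₂i H hH, hhh, hnh]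
    push_cast
    ring
  have hML : ii k L M = hh * ii k L N := by
    rw [ii_comm, ii_tensor k hdim hZ₁ hZ₂ hL, hZ₁i L hL, hZ₂i L hL, ii_comm k H L, hLH, ii_comm k N L]
    ring
  obtain ⟨c, hc⟩ := hint L M
  obtain ⟨d, hd'⟩ := hint M M
  have key : ∀ t : ℤ, 2 * (t : ℚ) * c + d ≤ 0 := by
    intro t
    obtain ⟨Z, hZ, hZi⟩ := zp L hL t
    have hT := Groth.L18.GenLoc.isInvertible_tensor hZ hM
    have h0 : ii k H (CohB1.tensorMod Z M) = 0 := by
      rw [ii_tensor_right k hdim hH hZ hM, hMH, ii_comm, hZi H hH, hLH]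
      ring
    have h2 := hneg _ hT h0
    rw [ii_tensor k hdim hZ hM hT, hZi _ hT, ii_tensor_right k hdim hL hZ hM,
      ii_tensor_right k hdim hM hZ hM, ii_comm k L Z, ii_comm k M Z, hZi L hL, hZi M hM, hc, hd'] at h2
    nlinarith [mul_nonneg (sq_nonneg (t : ℚ)) hLL]
  have hc0 : c = 0 := by
    by_contra hne
    have h := key (c * (|d| + 1))
    have h1 : 2 * (c * (|d| + 1)) * c + d ≤ 0 := by exact_mod_cast h
    have hsq : 1 ≤ c * c := by
      have : 0 < c * c := mul_self_pos.2 hne
      omega
    nlinarith [abs_nonneg d, neg_abs_le d, mul_nonneg (sub_nonneg.2 hsq) (abs_nonneg d)]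
  rw [hc, hc0] at hML
  rcases mul_eq_zero.1 (hML.symm.trans Int.cast_zero) with h | h
  · exact absurd (hhh.trans h) hHH.ne'
  · exact h

end Projective

variable {W : Scheme.{u}} [W.Over (Spec (CommRingCat.of k))] [IsProper (W ↘ Spec (CommRingCat.of k))]

/-- Intersection pairings are kept by modifications of degree one. -/
theorem ii_pullback [IsIntegral X] [IsIntegral W] (π : W ⟶ X) [IsProper π]
    (hπ : π ≫ (X ↘ Spec (CommRingCat.of k)) = W ↘ Spec (CommRingCat.of k))
    (hξ : π (genericPoint W) = genericPoint X) (hd : topologicalKrullDim W = (2 : ℕ))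
    (hdeg : π.residueDegree (genericPoint W) = 1) {A B : X.Modules} (hA : PicF.IsInvertible A)
    (hB : PicF.IsInvertible B) :
    ii k ((Scheme.Modules.pullback π).obj A) ((Scheme.Modules.pullback π).obj B) = ii k A B := by
  have h := altT_pullback k π hπ hξ hd (L := ![A, B]) (Fin.forall_fin_two.2 ⟨hA, hB⟩)
  rw [hdeg, Nat.cast_one, one_mul, show (fun i => (Scheme.Modules.pullback π).obj (![A, B] i)) =
    ![(Scheme.Modules.pullback π).obj A, (Scheme.Modules.pullback π).obj B] from
      funext fun i => by fin_cases i <;> rfl, ii_vec, ii_vec] at h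
  exact h

/-- Orthogonality to everything on an integral proper surface. -/
theorem ii_eq_zero_of_orth' [IsIntegral X] (hd : topologicalKrullDim X = (2 : ℕ))
    {H L N : X.Modules} (hH : PicF.IsInvertible H) (hL : PicF.IsInvertible L) (hN : PicF.IsInvertible N)
    (hHH : 0 < ii k H H) (hLH : ii k L H = 0) (hLL : 0 ≤ ii k L L) : ii k L N = 0 := by
  obtain ⟨V, hVi, oV, hVp, π, A, hπ, hπk, hπη, hVd, hdeg, hA⟩ := exists_projective_modification k hd
  haveI := hVi; haveI := hπ; haveI := hVp
  have h := ii_eq_zero_of_orth k hVd hA (Groth.L18.Ample.isInvertible_pullback π hH)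
    (Groth.L18.Ample.isInvertible_pullback π hL) (Groth.L18.Ample.isInvertible_pullback π hN)
    (by rwa [ii_pullback k π hπk hπη hVd hdeg hH hH]) (by rwa [ii_pullback k π hπk hπη hVd hdeg hL hH])
    (by rwa [ii_pullback k π hπk hπη hVd hdeg hL hL])
  rwa [ii_pullback k π hπk hπη hVd hdeg hL hN] at h

/-- The degree of a pulled back module on an integral curve. -/
theorem deg_map (b : W ⟶ X) (hb : b ≫ (X ↘ Spec (CommRingCat.of k)) = W ↘ Spec (CommRingCat.of k))
    (z : W) (hz : topologicalKrullDim (closure ({z} : Set W)) = (1 : ℕ)) :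
    (topologicalKrullDim (closure ({b z} : Set X)) = (1 : ℕ) ∧ ∃ m : ℕ, 0 < m ∧
      ∀ L : X.Modules, PicF.IsInvertible L →
        altT k (fun _ : Fin 1 => (Scheme.Modules.pullback b).obj L) (ClSub.quotMod (pt z)) =
          m * altT k (fun _ : Fin 1 => L) (ClSub.quotMod (pt (b z)))) ∨
    (topologicalKrullDim (closure ({b z} : Set X)) = (0 : ℕ) ∧ ∀ L : X.Modules, PicF.IsInvertible L →
      altT k (fun _ : Fin 1 => (Scheme.Modules.pullback b).obj L) (ClSub.quotMod (pt z)) = 0) := by
  haveI := Groth.L21.RR.isNoetherian_of_proper (X := X) k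
  haveI := Groth.L21.RR.isNoetherian_of_proper (X := W) k
  haveI : IsProper (b ≫ (X ↘ Spec (CommRingCat.of k))) := by rw [hb]; infer_instance
  haveI : IsProper b := IsProper.of_comp b (X ↘ Spec (CommRingCat.of k))
  haveI := isIntegral_pt z
  haveI := isIntegral_pt (b z)
  let i := (pt z).subschemeι
  let j := (pt (b z)).subschemeι
  letI : (pt z).subscheme.Over (Spec (CommRingCat.of k)) := ⟨i ≫ (W ↘ Spec (CommRingCat.of k))⟩
  haveI : IsProper ((pt z).subscheme ↘ Spec (CommRingCat.of k)) :=
    inferInstanceAs (IsProper (i ≫ (W ↘ Spec (CommRingCat.of k))))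
  letI : (pt (b z)).subscheme.Over (Spec (CommRingCat.of k)) := ⟨j ≫ (X ↘ Spec (CommRingCat.of k))⟩
  haveI : IsProper ((pt (b z)).subscheme ↘ Spec (CommRingCat.of k)) :=
    inferInstanceAs (IsProper (j ≫ (X ↘ Spec (CommRingCat.of k))))
  haveI := Groth.L21.RR.isNoetherian_of_proper (X := (pt (b z)).subscheme) k
  have hdz : topologicalKrullDim (pt z).subscheme = (1 : ℕ) := by
    rw [← dim_closure_image i, genericPoint_pt, hz]
  have hrange : Set.range (i ≫ b) ⊆ closure {b z} := by
    rintro _ ⟨w, rfl⟩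
    rw [Scheme.Hom.comp_apply]
    have h2 : i w ∈ closure ({z} : Set W) := (range_pt z).le ⟨w, rfl⟩
    exact specializes_iff_mem_closure.1 ((specializes_iff_mem_closure.2 h2).map b.continuous)
  have hle : j.ker ≤ (i ≫ b).ker := by
    rw [Scheme.IdealSheafData.ker_subschemeι]
    exact Groth.L18.vanishingIdeal_le_ker (i ≫ b) _ hrange
  let g : (pt z).subscheme ⟶ (pt (b z)).subscheme := IsClosedImmersion.lift j (i ≫ b) hle
  have hg : g ≫ j = i ≫ b := IsClosedImmersion.lift_fac _ _ _
  have hgk : g ≫ ((pt (b z)).subscheme ↘ Spec (CommRingCat.of k)) = (pt z).subscheme ↘ Spec (CommRingCat.of k) := by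
    show g ≫ j ≫ _ = i ≫ _
    rw [← Category.assoc, hg, Category.assoc, hb]
  haveI : IsProper (g ≫ ((pt (b z)).subscheme ↘ Spec (CommRingCat.of k))) := by rw [hgk]; infer_instance
  haveI : IsProper g := IsProper.of_comp g ((pt (b z)).subscheme ↘ Spec (CommRingCat.of k))
  have hgη : g (genericPoint (pt z).subscheme) = genericPoint (pt (b z)).subscheme := by
    apply j.isClosedEmbedding.injective
    rw [← Scheme.Hom.comp_apply, hg, Scheme.Hom.comp_apply, genericPoint_pt, genericPoint_pt]
  have hval : ∀ L : X.Modules, PicF.IsInvertible L →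
      altT k (fun _ : Fin 1 => (Scheme.Modules.pullback b).obj L) (ClSub.quotMod (pt z)) =
        (g.residueDegree (genericPoint (pt z).subscheme) : ℚ) *
          altT k (fun _ : Fin 1 => (Scheme.Modules.pullback j).obj L) (Coh.structureModule (pt (b z)).subscheme) := by
    intro L hL
    have h1 := altT_push_eq k i rfl hdz (L := fun _ : Fin 1 => (Scheme.Modules.pullback b).obj L)
      fun _ => Groth.L18.Ample.isInvertible_pullback b hL
    rw [genericPoint_pt] at h1
    rw [← h1, ← altT_pullback k g hgk hgη hdz (L := fun _ : Fin 1 => (Scheme.Modules.pullback j).obj L)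
      fun _ => Groth.L18.Ample.isInvertible_pullback j hL]
    exact altT_congr k (fun _ => ⟨(Scheme.Modules.pullbackComp i b).app L ≪≫
      (Scheme.Modules.pullbackCongr hg).symm.app L ≪≫ ((Scheme.Modules.pullbackComp g j).app L).symm⟩) _
  obtain ⟨a, c, ha, -, hac⟩ := Groth.L22.FibreDim.exists_dim_closure_add k b hb z
  have hac' : a + c = 1 := by
    have := hac.symm.trans hz
    exact_mod_cast this
  rcases (show a = 1 ∨ a = 0 by omega) with rfl | rfl
  · refine Or.inl ⟨ha, g.residueDegree (genericPoint (pt z).subscheme), ?_, fun L hL => ?_⟩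
    · exact residueDegree_pos g hgk hgη hdz (by rw [← dim_closure_image j, genericPoint_pt, ha])
    · rw [hval L hL]
      congr 1
      have hdy : topologicalKrullDim (pt (b z)).subscheme = (1 : ℕ) := by
        rw [← dim_closure_image j, genericPoint_pt, ha]
      have h2 := altT_push_eq k j rfl hdy (L := fun _ : Fin 1 => L) fun _ => hL
      rwa [genericPoint_pt] at h2
  · refine Or.inr ⟨ha, fun L hL => ?_⟩
    rw [hval L hL, altT_eq_zero k (fun _ => Groth.L18.Ample.isInvertible_pullback j hL)
      CohClosedPush.isCoh_structure, mul_zero]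
    rw [Groth.L22.Nakai.dim_support_structure, ← dim_closure_image j, genericPoint_pt, ha]
    exact_mod_cast le_rfl

/-- On an integral proper surface an orthogonal module has degree zero on every curve. -/
theorem deg_eq_zero [IsIntegral X] (hd : topologicalKrullDim X = (2 : ℕ))
    {H L : X.Modules} (hH : PicF.IsInvertible H) (hL : PicF.IsInvertible L)
    (hHH : 0 < ii k H H) (hLH : ii k L H = 0) (hLL : 0 ≤ ii k L L)
    (y : X) (hy : topologicalKrullDim (closure ({y} : Set X)) = (1 : ℕ)) :
    altT k (fun _ : Fin 1 => L) (ClSub.quotMod (pt y)) = 0 := by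
  haveI := Groth.L21.RR.isNoetherian_of_proper (X := X) k
  have hdX : topologicalKrullDim (closure ({genericPoint X} : Set X)) = (2 : ℕ) := by
    rw [(genericPoint_spec X).def, ← hd]
    exact IsHomeomorph.topologicalKrullDim_eq _ (Homeomorph.Set.univ X).isHomeomorph
  have hηy : genericPoint X ∉ closure ({y} : Set X) := fun h => by
    have h1 := topologicalKrullDim_set_mono (closure_minimal (Set.singleton_subset_iff.2 h) isClosed_closure)
    rw [hdX, hy] at h1
    have : (2 : ℕ) ≤ 1 := by exact_mod_cast h1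
    omega
  let I := pt y
  have hIsupp : (I.support : Set X) = closure {y} := by
    rw [← Scheme.IdealSheafData.range_subschemeι]; exact range_pt y
  have hI : I ≠ ⊥ := fun h => hηy (by rw [← hIsupp, h, Scheme.IdealSheafData.support_bot]; trivial)
  obtain ⟨W, b, hb⟩ := Groth.L13.BU.exists_isBlowUp I
  haveI : IsProper b := Groth.L13.BU.isProper_blowUp hb fun U => by
    haveI := IsLocallyNoetherian.component_noetherian U
    exact IsNoetherian.noetherian _
  obtain ⟨hWi, hbη, hst⟩ := Groth.L16.Blow.isIntegral_and_birational hb hI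
  haveI := hWi
  letI : W.Over (Spec (CommRingCat.of k)) := ⟨b ≫ (X ↘ Spec (CommRingCat.of k))⟩
  haveI : IsProper (W ↘ Spec (CommRingCat.of k)) :=
    inferInstanceAs (IsProper (b ≫ (X ↘ Spec (CommRingCat.of k))))
  haveI := Groth.L21.RR.isNoetherian_of_proper (X := W) k
  have hbk : b ≫ (X ↘ Spec (CommRingCat.of k)) = W ↘ Spec (CommRingCat.of k) := rfl
  have hdeg : b.residueDegree (genericPoint W) = 1 := by
    refine Groth.L22.Cyc.residueDegree_eq_one _ _ ⟨RingHom.injective _, fun t => ?_⟩
    obtain ⟨t', rfl⟩ := W.residue_surjective _ t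
    haveI := hst
    obtain ⟨s, rfl⟩ := (ConcreteCategory.bijective_of_isIso (b.stalkMap (genericPoint W))).2 t'
    exact ⟨X.residue _ s, ConcreteCategory.congr_hom (Scheme.residue_residueFieldMap b _) s⟩
  have hbsurj : Function.Surjective b := fun x => by
    have h : x ∈ closure ({genericPoint X} : Set X) := by rw [(genericPoint_spec X).def]; trivial
    exact closure_minimal (Set.singleton_subset_iff.2 (show genericPoint X ∈ Set.range b from ⟨_, hbη⟩))
      b.isClosedMap.isClosed_range h
  have hWd : topologicalKrullDim W = (2 : ℕ) := by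
    let O : X.Opens := I.support.compl
    haveI := Groth.L22.Ideals.isIso_restrict_compl hb
    have hηO : genericPoint X ∈ O := fun h => hηy (hIsupp.le h)
    have huniq : ∀ x', b x' = genericPoint X → x' = genericPoint W := by
      intro x' hx'
      have h1 : x' ∈ b ⁻¹ᵁ O := by show b x' ∈ O; rw [hx']; exact hηO
      have h2 : genericPoint W ∈ b ⁻¹ᵁ O := by show b _ ∈ O; rw [hbη]; exact hηO
      have h3 : (b ∣_ O) ⟨x', h1⟩ = (b ∣_ O) ⟨genericPoint W, h2⟩ := by
        apply O.ι.isOpenEmbedding.injective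
        rw [← Scheme.Hom.comp_apply, ← Scheme.Hom.comp_apply, morphismRestrict_ι, Scheme.Hom.comp_apply,
          Scheme.Hom.comp_apply]
        exact hx'.trans hbη.symm
      exact congrArg Subtype.val ((asIso (b ∣_ O)).hom.homeomorph.injective h3)
    obtain ⟨a, c, ha, hc, hac⟩ := Groth.L22.FibreDim.exists_dim_closure_add k b hbk (genericPoint W)
    rw [hbη, hdX] at ha
    have hc0 : c = 0 := by
      haveI : Subsingleton (closure ({genericPoint W} : Set W) ∩ b ⁻¹' {b (genericPoint W)} : Set W) :=
        ⟨fun u v => Subtype.ext (by rw [huniq u.1 (u.2.2.trans hbη), huniq v.1 (v.2.2.trans hbη)])⟩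
      haveI : DiscreteTopology (closure ({genericPoint W} : Set W) ∩ b ⁻¹' {b (genericPoint W)} : Set W) :=
        Subsingleton.discreteTopology
      have h0 := topologicalKrullDim_zero_of_discreteTopology
        (closure ({genericPoint W} : Set W) ∩ b ⁻¹' {b (genericPoint W)} : Set W)
      rw [hc] at h0
      exact Nat.le_zero.1 (by exact_mod_cast h0)
    rw [(genericPoint_spec W).def, hc0, add_zero] at hac
    have h2a : (2 : ℕ) = a := by exact_mod_cast ha
    rw [h2a, ← hac]
    exact (IsHomeomorph.topologicalKrullDim_eq _ (Homeomorph.Set.univ W).isHomeomorph).symm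
  -- the exceptional divisor
  obtain ⟨N, s, hN, -, hs⟩ := Groth.L08.Cube.exists_section_of_effCartier _ hb.1
  have hsuppE : ((I.comap b).support : Set W) = b ⁻¹' closure {y} := by
    rw [Scheme.IdealSheafData.support_comap, ← hIsupp]; rfl
  have hηW : genericPoint W ∈ CohB1.genLocus N s := by
    show genericPoint W ∈ (CohB1.genLocus N s : Set W)
    rw [hs, hsuppE, Set.mem_compl_iff, Set.mem_preimage, hbη]
    exact hηy
  haveI : Mono s := Groth.L22.Nakai.mono_of_injective (Groth.L18.Ample.isInvertible_structureModule W) s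
    (bijective_stalk_section s hηW).1
  obtain ⟨hD, hDη⟩ := cokernel_facts k (Groth.L18.Ample.isInvertible_structureModule W) hN s
  haveI : Coh.IsQCoh N := (Groth.L18.Ample.isCoh_of_isInvertible hN).1
  have hsupp : ∀ x, x ∈ CohB1.support (cokernel s) ↔ b x ∈ closure ({y} : Set X) := fun x => by
    have h1 : x ∈ CohB1.support (cokernel s) ↔ x ∉ CohB1.genLocus N s := by
      rw [← not_iff_not, not_not, Groth.L21.RR.mem_genLocus_iff hN, notMem_support_cokernel_iff]
      rfl
    rw [h1]
    show x ∉ (CohB1.genLocus N s : Set W) ↔ _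
    rw [hs, Set.mem_compl_iff, not_not, hsuppE]
    rfl
  have hT := CohSupport.isClosed_support (cokernel s) hD.2
  have hd1 : topologicalKrullDim (CohB1.support (cokernel s)) ≤ (1 : ℕ) :=
    dim_le_of_generic_notMem hT hDη hWd.le
  -- orthogonality upstairs
  have hL' := Groth.L18.Ample.isInvertible_pullback b hL
  have hH' := Groth.L18.Ample.isInvertible_pullback b hH
  have h0 : ii k ((Scheme.Modules.pullback b).obj L) N = 0 :=
    ii_eq_zero_of_orth' k hWd hH' hL' hN (by rwa [ii_pullback k b hbk hbη hWd hdeg hH hH])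
      (by rwa [ii_pullback k b hbk hbη hWd hdeg hL hH]) (by rwa [ii_pullback k b hbk hbη hWd hdeg hL hL])
  rw [ii_comm, ii_eq_coker k hWd.le hN hL' s] at h0
  have hS : ∀ x, x ∈ (finite_top hT hd1).toFinset ↔ x ∈ CohB1.support (cokernel s) ∧
      topologicalKrullDim (closure ({x} : Set W)) = ((1 : ℕ) : WithBot ℕ∞) := fun x => Set.Finite.mem_toFinset _
  rw [altT_eq_sum k (fun _ => hL') hT hd1 _ hS (fun z => ClSub.quotMod (pt z)) (fun z _ => pt_facts z) hD
    subset_rfl] at h0
  -- every term is a multiple of the degree on the curve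
  have hterm : ∀ z ∈ (finite_top hT hd1).toFinset, ∃ m : ℕ, (b z = y → 0 < m) ∧
      altT k (fun _ : Fin 1 => (Scheme.Modules.pullback b).obj L) (ClSub.quotMod (pt z)) =
        m * altT k (fun _ : Fin 1 => L) (ClSub.quotMod (pt y)) := by
    intro z hz
    obtain ⟨hzT, hzd⟩ := (hS z).1 hz
    rcases deg_map k b hbk z hzd with ⟨hw, m, hm, hmL⟩ | ⟨hw, hmL⟩
    · have hzy : b z = y := (eq_of_specializes_top isClosed_closure hy.le hw (subset_closure rfl)
        (specializes_iff_mem_closure.2 ((hsupp z).1 hzT))).symm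
      exact ⟨m, fun _ => hm, by rw [hmL L hL, hzy]⟩
    · refine ⟨0, fun h => ?_, by rw [hmL L hL, Nat.cast_zero, zero_mul]⟩
      rw [h, hy] at hw
      have : (1 : ℕ) = 0 := by exact_mod_cast hw
      omega
  choose! m hm hmeq using hterm
  -- some component dominates the curve
  obtain ⟨x₀, hx₀⟩ := hbsurj y
  obtain ⟨x, hx, -, hxcl⟩ := Groth.L22.FibreDim.exists_closure_inter_eq b (x := x₀)
  have hxy : b x = y := hx.trans hx₀
  obtain ⟨a, c, ha, hc, hac⟩ := Groth.L22.FibreDim.exists_dim_closure_add k b hbk x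
  rw [hxcl] at hc
  haveI : DiscreteTopology ({x} : Set W) := Subsingleton.discreteTopology
  have hc0 : c = 0 := by
    have h0 := topologicalKrullDim_zero_of_discreteTopology ({x} : Set W)
    rw [hc] at h0
    exact Nat.le_zero.1 (by exact_mod_cast h0)
  rw [hxy, hy] at ha
  have hxd : topologicalKrullDim (closure ({x} : Set W)) = (1 : ℕ) := by
    rw [hac, hc0, add_zero]; exact ha.symm
  have hxT : x ∈ CohB1.support (cokernel s) := (hsupp x).2 (hxy ▸ subset_closure rfl)
  have hxS : x ∈ (finite_top hT hd1).toFinset := (hS x).2 ⟨hxT, hxd⟩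
  have hlen : 0 < (CohSupport.len x (cokernel s)).toNat := by
    refine Nat.pos_of_ne_zero fun h => ?_
    rcases ENat.toNat_eq_zero.1 h with h | h
    · exact (CohSupport.len_eq_zero_iff x _).1 h hxT
    · exact CohSupport.len_ne_top hD (fun z hz hzx => (eq_of_specializes_top hT hd1 hxd hz hzx)) h
  have hsum : (∑ z ∈ (finite_top hT hd1).toFinset, ((CohSupport.len z (cokernel s)).toNat * m z : ℕ) : ℚ) *
      altT k (fun _ : Fin 1 => L) (ClSub.quotMod (pt y)) = 0 := by
    rw [Finset.sum_mul, ← h0]
    refine Finset.sum_congr rfl fun z hz => ?_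
    rw [hmeq z hz, Nat.cast_mul, mul_assoc]
  refine (mul_eq_zero.1 hsum).resolve_left (ne_of_gt ?_)
  exact Finset.sum_pos' (fun z _ => Nat.cast_nonneg _)
    ⟨x, hxS, by exact_mod_cast Nat.mul_pos hlen (hm x hxS hxy)⟩

end Groth.L02.Num.Hodge
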