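import Groth.Prelude.Def_FGA
import Groth.Agent.L21.RR.BaseChange
import Groth.Agent.L03.Euler.Twist
import Groth.Agent.L29.DCoh.PullTensor

/-!
# Intersection symbols and pullback
-/

set_option autoImplicit false
set_option linter.style.haveILetI false

universe u

open CategoryTheory CategoryTheory.Limits AlgebraicGeometry

noncomputable section

namespace Groth.L02.Num

variable {X Y : Scheme.{u}} (g : Y ⟶ X)

theorem nonempty_pullback_tensorList {ι : Type*} (M : ι → X.Modules) : ∀ l : List ι,
    Nonempty (FGA.tensorList (l.map fun i => (Scheme.Modules.pullback g).obj (M i)) ≅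
      (Scheme.Modules.pullback g).obj (FGA.tensorList (l.map M)))
  | [] => ⟨(Groth.L29.LocFree.pullbackUnitIso g).symm⟩
  | a :: l => by
    obtain ⟨e⟩ := nonempty_pullback_tensorList M l
    exact ⟨Groth.L00.Tensor.tensorIso (Iso.refl _) e ≪≫ Groth.L29.DC.PullTensor.pullTensor g _ _⟩

theorem isInvertible_tensorList {ι : Type*} {M : ι → X.Modules} (hM : ∀ i, PicF.IsInvertible (M i)) :
    ∀ l : List ι, PicF.IsInvertible (FGA.tensorList (l.map M))
  | [] => Groth.L18.Ample.isInvertible_structureModule X
  | a :: l => Groth.L18.GenLoc.isInvertible_tensor (hM a) (isInvertible_tensorList hM l)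

end Groth.L02.Num
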